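import Cfsg.Agent.Lib.Helper44.FW.Defs

/-!
# FW [TRANS]: transport of the `SL₂` facts to a subgroup `L ≅ SL₂(F)`
-/

set_option autoImplicit false

namespace Cfsg.Agent.Lib.Helper11.FW

open Cfsg.Agent.Lib.Helper44.FW

universe u v

theorem qA_sq (F : Type v) [Field F] : (qA F) ^ 2 = negOne F := by
  rw [sq]
  apply Subtype.ext
  rw [Matrix.SpecialLinearGroup.coe_mul]
  simp only [qA, negOne]
  ext i j
  fin_cases i <;> fin_cases j <;> simp [Matrix.mul_apply, Fin.sum_univ_two]

theorem pkgTrans (hU : PkgSL2U.{v}) (hSQ : PkgSL2SQ.{v}) : PkgTrans.{u, v} := by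
  intro G _ F _ _ hodd L ⟨e⟩ j hj hord
  have h2 : (2 : F) ≠ 0 := by
    apply Ring.two_ne_zero
    intro hchar
    have := FiniteField.even_card_of_char_two hchar
    exact (Nat.not_even_iff_odd.mpr hodd) (Nat.even_iff.mpr this)
  have hj2 : j ^ 2 = 1 := by rw [← hord]; exact pow_orderOf_eq_one j
  have hj1 : j ≠ 1 := by
    intro h; rw [h, orderOf_one] at hord; omega
  -- `e j = -1`
  have hej : e ⟨j, hj⟩ = negOne F := by
    have h1 : (e ⟨j, hj⟩) ^ 2 = 1 := by
      rw [← map_pow]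
      have : (⟨j, hj⟩ : L) ^ 2 = 1 := Subtype.ext hj2
      rw [this, map_one]
    rcases hU F h2 _ h1 with h | h
    · exfalso; apply hj1
      have : (⟨j, hj⟩ : L) = 1 := e.injective (by rw [h, map_one])
      exact congrArg Subtype.val this
    · exact h
  refine ⟨?_, ?_, ?_⟩
  · intro x hx hx2
    have h1 : (e ⟨x, hx⟩) ^ 2 = 1 := by
      rw [← map_pow]
      have : (⟨x, hx⟩ : L) ^ 2 = 1 := Subtype.ext hx2
      rw [this, map_one]
    rcases hU F h2 _ h1 with h | h
    · left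
      have : (⟨x, hx⟩ : L) = 1 := e.injective (by rw [h, map_one])
      exact congrArg Subtype.val this
    · right
      have : (⟨x, hx⟩ : L) = ⟨j, hj⟩ := e.injective (by rw [h, hej])
      exact congrArg Subtype.val this
  · refine ⟨(e.symm (qA F) : L), (e.symm (qA F)).2, ?_⟩
    have h1 : (e.symm (qA F)) ^ 2 = (⟨j, hj⟩ : L) := by
      apply e.injective
      rw [map_pow, MulEquiv.apply_symm_apply, qA_sq, hej]
    exact congrArg Subtype.val h1
  · intro x hx hx2 u hu u' hu' hu2 hu'2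
    have h1 : (e ⟨x, hx⟩) ^ 2 = negOne F := by
      rw [← map_pow, ← hej]
      congr 1
      exact Subtype.ext hx2
    have h3 : (e ⟨u, hu⟩) ^ 2 = e ⟨x, hx⟩ := by
      rw [← map_pow]; congr 1; exact Subtype.ext hu2
    have h4 : (e ⟨u', hu'⟩) ^ 2 = e ⟨x, hx⟩ := by
      rw [← map_pow]; congr 1; exact Subtype.ext hu'2
    rcases hSQ F h2 _ _ _ h1 h3 h4 with h | h
    · left
      have : (⟨u', hu'⟩ : L) = ⟨u, hu⟩ := e.injective h
      exact congrArg Subtype.val this
    · right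
      have : (⟨u', hu'⟩ : L) = ⟨u, hu⟩ * ⟨j, hj⟩ := e.injective (by rw [h, map_mul, hej])
      exact congrArg Subtype.val this

end Cfsg.Agent.Lib.Helper11.FW
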